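import Mathlib.Algebra.Group.End
import Mathlib.Algebra.BigOperators.Group.List.Lemmas
import Mathlib.Algebra.Group.Subgroup.Ker
import Mathlib.Tactic.Group

/-!
Elementary identities of Shintani descent in an abstract group with an automorphism.
-/

set_option autoImplicit false

namespace CfsgLib.Shintani

variable {X : Type*} [Group X] (σ : MulAut X)

theorem mem_fix {τ : MulAut X} {x : X} :
    x ∈ (MulEquiv.toMonoidHom τ).eqLocus (MonoidHom.id X) ↔ τ x = x := Iff.rfl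

theorem pow_fixed {τ : MulAut X} {x : X} (h : τ x = x) : ∀ k : ℕ, (τ ^ k) x = x
  | 0 => rfl
  | k + 1 => by rw [pow_succ', MulAut.mul_apply, pow_fixed h k, h]

theorem pow_comm_apply (i j : ℕ) (x : X) : (σ ^ i) ((σ ^ j) x) = (σ ^ j) ((σ ^ i) x) := by
  rw [← MulAut.mul_apply, ← pow_add, add_comm, pow_add, MulAut.mul_apply]

theorem norm_telescope (a : X) (d : ℕ) :
    ((List.range d).map fun i => (σ ^ i) (a * (σ a)⁻¹)).prod = a * ((σ ^ d) a)⁻¹ := by
  induction d with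
  | zero => simp
  | succ d ih =>
    rw [List.range_succ, List.map_append, List.prod_append, ih, List.map_singleton,
      List.prod_singleton, map_mul, map_inv, pow_succ, MulAut.mul_apply]
    group

/-- `x = σᵉ(a)⁻¹ a` is fixed by `σ` as soon as `g = a σ(a)⁻¹` is fixed by `σᵉ`. -/
theorem descent_fixed {e : ℕ} {a : X} (hg : (σ ^ e) (a * (σ a)⁻¹) = a * (σ a)⁻¹) :
    σ (((σ ^ e) a)⁻¹ * a) = ((σ ^ e) a)⁻¹ * a := by
  have h1 : (σ ^ e) (σ a) = σ ((σ ^ e) a) := by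
    rw [← MulAut.mul_apply, ← pow_succ, pow_succ', MulAut.mul_apply]
  rw [map_mul, map_inv, h1] at hg
  rw [map_mul, map_inv]
  calc (σ ((σ ^ e) a))⁻¹ * σ a
      = ((σ ^ e) a)⁻¹ * ((σ ^ e) a * (σ ((σ ^ e) a))⁻¹) * σ a := by group
    _ = ((σ ^ e) a)⁻¹ * a := by rw [hg]; group

theorem descent_pow {e : ℕ} {a : X}
    (hx : σ (((σ ^ e) a)⁻¹ * a) = ((σ ^ e) a)⁻¹ * a) (d : ℕ) :
    (((σ ^ e) ^ d) a)⁻¹ * a = (((σ ^ e) a)⁻¹ * a) ^ d := by
  set x := ((σ ^ e) a)⁻¹ * a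
  induction d with
  | zero => simp
  | succ d ih =>
    rw [pow_succ' x, ← ih]
    have e1 : ((σ ^ e) ^ d) x = x := pow_fixed (pow_fixed hx e) d
    nth_rewrite 1 [← e1]
    rw [map_mul, map_inv, pow_succ (σ ^ e), MulAut.mul_apply]
    group

end CfsgLib.Shintani
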